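import Cfsg.Agent.H217.Odm.Eng
import Cfsg.Agent.H257.El.TopB
import Cfsg.Agent.H444.ThLoc
import Cfsg.Agent.NotCT.Orders

/-!
# TEAM ODDM (S4785): the Thompson group (helper835)

`r = 19`: `|N(⟨x⟩)| = 19 · 18`; the elements of order 7 commute with no element of order 19 and some of them are real.
-/

set_option autoImplicit false

namespace Cfsg.Agent.H835.OdmRowTh

open Cfsg Subgroup Cfsg.Agent.OrdDiv Cfsg.Agent.H453.OddM Cfsg.Agent.H257.El Cfsg.Agent.H217.Odm

universe u

theorem real_seven : RealP Spor.Th 7 := by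
  have h := H723.Spor.Th.setup KFacts.Th.Main.ctx H723.Spor.Th.hone
  refine ⟨Cfsg.Agent.Th.IndexUpper.gTh 6, h.s7, ⟨Cfsg.Agent.Th.IndexUpper.gTh 4, ?_⟩⟩
  rw [inv_eq_of_mul_eq_one_left h.d2]
  exact h.ds

theorem card_cent {x : Spor.Th} (hx : orderOf x = 19) :
    Nat.card (centralizer ({x} : Set Spor.Th)) = 19 * 1 := by
  have h1 : Nat.card (zpowers x) = 19 := by rw [Nat.card_zpowers, hx]
  have h2 := (H444.ThLoc.cn19 h1).1
  rw [H444.ThLoc.card_cent_of (r := 19) (by norm_num) hx |>.2] at h2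
  rw [h2]

theorem row (tab : Cfsg.Agent.OrdDiv.OrderTable.{u}) (known : Cfsg.Agent.H257.El.Known.{u}) {T : Type u} [Group T]
    (h : Cfsg.Spor.IsoTh T) : Cfsg.Agent.H453.OddM.Row T := by
  have hc : Nat.card T = 90745943887872000 := NotCT.Orders.th h
  have : Finite T := Nat.finite_of_card_ne_zero (by rw [hc]; norm_num)
  obtain ⟨e⟩ := h
  have hce : ∀ x : T, orderOf x = 19 → Nat.card (centralizer ({x} : Set T)) = 19 * 1 := by
    intro x hx
    obtain ⟨y, hy, h1⟩ := exists_cent_congr e.symm (P := fun k => k = Nat.card (centralizer ({x} : Set T)))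
      ⟨x, hx, rfl⟩
    rw [← h1]
    exact card_cent hy
  have hnc : ∀ x : T, orderOf x = 19 →
      Nat.card (normalizer ((zpowers x : Subgroup T) : Set T)) = 19 * 18 ∧ IsReal x := by
    intro x hx
    obtain ⟨h1, h2⟩ := norm_of_cent (G := T) (r := 19) (n := 4776102309888000) (c := 1) (e := 18) (by norm_num)
      (by rw [hc]) (by norm_num) hx (hce x hx) (by norm_num) (by norm_num)
    exact ⟨by rw [h1], h2 (by decide)⟩
  have : Fact (Nat.Prime 19) := ⟨by norm_num⟩
  obtain ⟨x, hx⟩ := exists_prime_orderOf_dvd_card' (G := T) 19 (by rw [hc]; norm_num)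
  refine row_of_two tab known (r := 19) (nu := 18) (ss := [7])
    (l := [(2, 15), (3, 10), (5, 3), (7, 2), (13, 1), (19, 1), (31, 1)]) hc (by norm_num)
    ⟨x, hx, (hnc x hx).2⟩ (fun x hx => (hnc x hx).1) ?_ (by decide +kernel)
  intro s hs
  rw [List.mem_singleton] at hs
  rw [hs]
  refine ⟨by norm_num, ?_, noOrd_of_cent (by norm_num) (fun x hx => by rw [hce x hx]) (by norm_num) (by norm_num)⟩
  obtain ⟨y, hy, hr⟩ := real_seven
  exact ⟨e.symm y, by rw [MulEquiv.orderOf_eq, hy], hr.map e.symm.toMonoidHom⟩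

end Cfsg.Agent.H835.OdmRowTh
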