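import Mathlib
import Cfsg.Agent.Lib.Cores

/-!
# Actions on elementary abelian groups of order nine and `GL(2,3)` (helper835)
-/

set_option autoImplicit false

namespace Cfsg.Agent.H835.GLAct

open Matrix

/-- the vectors -/
abbrev A2 : Type := Fin 2 → ZMod 3

section act

variable {G : Type*} [Group G]

/-- the element with the coordinates `a` -/
def vec (v x : G) (a : A2) : G := v ^ (a 0).val * x ^ (a 1).val

/-- `v`, `x` generate an elementary abelian group of order nine -/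
structure VData (v x : G) : Prop where
  v3 : v ^ 3 = 1
  x3 : x ^ 3 = 1
  vx : v * x = x * v
  ind : ∀ i j : ℕ, i < 3 → j < 3 → v ^ i * x ^ j = 1 → i = 0 ∧ j = 0

variable {v x : G}

theorem pow_val_add {v : G} (h : v ^ 3 = 1) (a b : ZMod 3) : v ^ (a + b).val = v ^ a.val * v ^ b.val := by
  rw [ZMod.val_add, ← pow_add]
  exact (pow_eq_pow_mod _ h).symm

theorem vec_add (V : VData v x) (a b : A2) : vec v x (a + b) = vec v x a * vec v x b := by
  unfold vec
  rw [Pi.add_apply, Pi.add_apply, pow_val_add V.v3, pow_val_add V.x3]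
  have hc : Commute (x ^ (a 1).val) (v ^ (b 0).val) := ((show Commute v x from V.vx).symm.pow_pow _ _)
  calc v ^ (a 0).val * v ^ (b 0).val * (x ^ (a 1).val * x ^ (b 1).val)
      = v ^ (a 0).val * (v ^ (b 0).val * x ^ (a 1).val) * x ^ (b 1).val := by group
    _ = v ^ (a 0).val * (x ^ (a 1).val * v ^ (b 0).val) * x ^ (b 1).val := by rw [hc.eq]
    _ = _ := by group

theorem vec_zero : vec v x 0 = 1 := by
  unfold vec
  simp

theorem vec_inj (V : VData v x) {a b : A2} (h : vec v x a = vec v x b) : a = b := by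
  have h1 : vec v x (a - b) = 1 := by
    have h2 := vec_add V (a - b) b
    rw [sub_add_cancel, h] at h2
    exact (mul_eq_right.1 h2.symm)
  have h2 := V.ind _ _ (ZMod.val_lt _) (ZMod.val_lt _) h1
  have h3 : a - b = 0 := by
    funext i
    fin_cases i
    · exact (ZMod.val_eq_zero _).1 h2.1
    · exact (ZMod.val_eq_zero _).1 h2.2
  exact sub_eq_zero.1 h3

theorem vec_e0 : vec v x ![1, 0] = v := by
  unfold vec
  show v ^ (1 : ZMod 3).val * x ^ (0 : ZMod 3).val = v
  rw [show (1 : ZMod 3).val = 1 from rfl, show (0 : ZMod 3).val = 0 from rfl, pow_one, pow_zero, mul_one]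

theorem vec_e1 : vec v x ![0, 1] = x := by
  unfold vec
  show v ^ (0 : ZMod 3).val * x ^ (1 : ZMod 3).val = x
  rw [show (1 : ZMod 3).val = 1 from rfl, show (0 : ZMod 3).val = 0 from rfl, pow_one, pow_zero, one_mul]

theorem vec_pow (V : VData v x) (a : A2) (n : ℕ) : ∃ b, vec v x a ^ n = vec v x b := by
  induction n with
  | zero => exact ⟨0, by rw [pow_zero, vec_zero]⟩
  | succ n ih =>
    obtain ⟨b, hb⟩ := ih
    exact ⟨b + a, by rw [pow_succ, hb, vec_add V]⟩

/-- **the action of a subgroup as a homomorphism to `GL(2,3)`** -/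
theorem exists_rho (V : VData v x) (N : Subgroup G)
    (hN : ∀ n ∈ N, (∃ a, n * v * n⁻¹ = vec v x a) ∧ ∃ a, n * x * n⁻¹ = vec v x a) :
    ∃ ρ : ↥N →* GL (Fin 2) (ZMod 3), ∀ (n : ↥N) (a : A2),
      (n : G) * vec v x a * (n : G)⁻¹ = vec v x ((ρ n).1 *ᵥ a) := by
  have h1 : ∀ (n : ↥N) (a : A2), ∃ b, (n : G) * vec v x a * (n : G)⁻¹ = vec v x b := by
    intro n a
    obtain ⟨⟨c, hc⟩, ⟨d, hd⟩⟩ := hN n n.2
    obtain ⟨c', hc'⟩ := vec_pow V c (a 0).val
    obtain ⟨d', hd'⟩ := vec_pow V d (a 1).val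
    refine ⟨c' + d', ?_⟩
    rw [vec_add V, ← hc', ← hd', ← hc, ← hd, conj_pow, conj_pow]
    unfold vec
    group
  choose f hf using h1
  have fadd : ∀ n a b, f n (a + b) = f n a + f n b := by
    intro n a b
    apply vec_inj V
    rw [vec_add V (f n a), ← hf, ← hf, ← hf, vec_add V]
    group
  let E : ↥N →* Module.End (ZMod 3) A2 :=
    { toFun := fun n => (AddMonoidHom.mk' (f n) (fadd n)).toZModLinearMap 3
      map_one' := by
        ext1 i
        ext1
        apply vec_inj V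
        show vec v x (f 1 _) = vec v x _
        rw [← hf]
        simp
      map_mul' := by
        intro n n'
        refine LinearMap.ext fun a => ?_
        apply vec_inj V
        show vec v x (f (n * n') a) = vec v x (f n (f n' a))
        rw [← hf, ← hf, ← hf, Subgroup.coe_mul]
        group }
  let F : ↥N →* Matrix (Fin 2) (Fin 2) (ZMod 3) :=
    ((LinearMap.toMatrixAlgEquiv' : Module.End (ZMod 3) A2 ≃ₐ[ZMod 3] Matrix (Fin 2) (Fin 2) (ZMod 3)) :
      Module.End (ZMod 3) A2 →* Matrix (Fin 2) (Fin 2) (ZMod 3)).comp E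
  refine ⟨F.toHomUnits, fun n a => ?_⟩
  rw [hf]
  congr 1
  show f n a = (LinearMap.toMatrix' (E n)) *ᵥ a
  rw [← Matrix.toLin'_apply, Matrix.toLin'_toMatrix']
  rfl

end act

/-- the matrix from the images of the basis -/
theorem rho_eq {G : Type*} [Group G] {v x : G} (V : VData v x) {N : Subgroup G} {ρ : ↥N →* GL (Fin 2) (ZMod 3)}
    (hρ : ∀ (n : ↥N) (a : A2), (n : G) * vec v x a * (n : G)⁻¹ = vec v x ((ρ n).1 *ᵥ a)) {n : ↥N} {a b : A2}
    (ha : (n : G) * v * (n : G)⁻¹ = vec v x a) (hb : (n : G) * x * (n : G)⁻¹ = vec v x b) :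
    (ρ n).1 = !![a 0, b 0; a 1, b 1] := by
  have h0 : (ρ n).1 *ᵥ ![1, 0] = a := by
    apply vec_inj V
    rw [← hρ, vec_e0, ha]
  have h1 : (ρ n).1 *ᵥ ![0, 1] = b := by
    apply vec_inj V
    rw [← hρ, vec_e1, hb]
  have e0 := fun i => congrFun h0 i
  have e1 := fun i => congrFun h1 i
  simp only [Matrix.mulVec, dotProduct, Fin.sum_univ_two] at e0 e1
  simp at e0 e1
  ext i j
  fin_cases i <;> fin_cases j
  · exact e0.1
  · exact e1.1
  · exact e0.2
  · exact e1.2

/-! ### Generation of `GL(2,3)` -/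

theorem surj {N : Type*} [Group N] (ρ : N →* GL (Fin 2) (ZMod 3)) {U L C D : N}
    (hU : (ρ U).1 = !![1, 1; 0, 1]) (hL : (ρ L).1 = !![0, 2; 1, 2]) (hC : (ρ C).1 = !![2, 0; 0, 2])
    (hD : (ρ D).1 = !![1, 0; 0, 2]) : Function.Surjective ρ := by
  have key : ∀ M : Matrix (Fin 2) (Fin 2) (ZMod 3), M.det ≠ 0 → ∃ n : N, (ρ n).1 = M := by
    intro M hM
    refine Matrix.diagonal_transvection_induction_of_det_ne_zero (fun M => ∃ n : N, (ρ n).1 = M) M hM ?_ ?_ ?_
    · intro d hd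
      rw [Matrix.det_diagonal, Fin.prod_univ_two] at hd
      have h0 : d 0 ≠ 0 := left_ne_zero_of_mul hd
      have h1 : d 1 ≠ 0 := right_ne_zero_of_mul hd
      have hc : ∀ z : ZMod 3, z ≠ 0 → z = 1 ∨ z = 2 := by decide
      have hd' : Matrix.diagonal d = !![d 0, 0; 0, d 1] := by
        ext i j
        fin_cases i <;> fin_cases j <;> rfl
      rw [hd']
      rcases hc _ h0 with h0 | h0 <;> rcases hc _ h1 with h1 | h1 <;> rw [h0, h1]
      · exact ⟨1, by rw [map_one]; decide⟩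
      · exact ⟨D, hD⟩
      · exact ⟨C * D, by rw [map_mul, Units.val_mul, hC, hD]; decide⟩
      · exact ⟨C, hC⟩
    · rintro ⟨i, j, hij, c⟩
      have ht : (TransvectionStruct.mk i j hij c : TransvectionStruct (Fin 2) (ZMod 3)).toMatrix =
          1 + Matrix.single i j c := rfl
      have hc : ∀ c : ZMod 3, c = 0 ∨ c = 1 ∨ c = 2 := by decide
      have hcase : ∀ i j : Fin 2, i ≠ j → (i = 0 ∧ j = 1) ∨ (i = 1 ∧ j = 0) := by decide
      show ∃ n : N, (ρ n).1 = (TransvectionStruct.mk i j hij c : TransvectionStruct (Fin 2) (ZMod 3)).toMatrix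
      rw [ht]
      have s01 : ∀ c : ZMod 3, (1 + Matrix.single 0 1 c : Matrix (Fin 2) (Fin 2) (ZMod 3)) = !![1, c; 0, 1] := by
        intro c
        ext k l
        fin_cases k <;> fin_cases l <;> simp [Matrix.single_apply]
      have s10 : ∀ c : ZMod 3, (1 + Matrix.single 1 0 c : Matrix (Fin 2) (Fin 2) (ZMod 3)) = !![1, 0; c, 1] := by
        intro c
        ext k l
        fin_cases k <;> fin_cases l <;> simp [Matrix.single_apply]
      rcases hcase i j hij with ⟨rfl, rfl⟩ | ⟨rfl, rfl⟩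
      · rw [s01]
        rcases hc c with rfl | rfl | rfl
        · exact ⟨1, by rw [map_one]; decide⟩
        · exact ⟨U, hU⟩
        · exact ⟨U * U, by rw [map_mul, Units.val_mul, hU]; decide⟩
      · rw [s10]
        rcases hc c with rfl | rfl | rfl
        · exact ⟨1, by rw [map_one]; decide⟩
        · exact ⟨L * (U * (U * (L * L))), by simp only [map_mul, Units.val_mul, hU, hL]; decide⟩
        · exact ⟨L * (U * (L * L)), by simp only [map_mul, Units.val_mul, hU, hL]; decide⟩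
    · rintro A B - - ⟨a, ha⟩ ⟨b, hb⟩
      exact ⟨a * b, by rw [map_mul, Units.val_mul, ha, hb]⟩
  intro g
  obtain ⟨n, hn⟩ := key g.1 (by
    have := (Matrix.isUnit_iff_isUnit_det _).1 g.isUnit
    exact this.ne_zero)
  exact ⟨n, Units.ext hn⟩

theorem card_gl : Nat.card (GL (Fin 2) (ZMod 3)) = 48 := by
  rw [Matrix.card_GL_field]
  simp [Fin.prod_univ_two, ZMod.card]

theorem aux : ∀ a b c d : ZMod 3, (!![a, b; c, d] : Matrix (Fin 2) (Fin 2) (ZMod 3)) ^ 3 = 1 →
    (!![a, b; c, d] * (!![1, 1; 0, 1] * !![a, b; c, d] * !![1, -1; 0, 1])) ^ 3 = 1 →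
    (!![a, b; c, d] * (!![1, 0; 1, 1] * !![a, b; c, d] * !![1, 0; -1, 1])) ^ 3 = 1 →
    (!![a, b; c, d] : Matrix (Fin 2) (Fin 2) (ZMod 3)) = 1 := by
  decide +kernel

/-- a transvection -/
def g1 : GL (Fin 2) (ZMod 3) := ⟨!![1, 1; 0, 1], !![1, -1; 0, 1], by decide, by decide⟩
/-- a transvection -/
def g2 : GL (Fin 2) (ZMod 3) := ⟨!![1, 0; 1, 1], !![1, 0; -1, 1], by decide, by decide⟩

/-- a normal 3-subgroup of `GL(2,3)` is trivial -/
theorem eq_bot_of_normal {Q : Subgroup (GL (Fin 2) (ZMod 3))} (hQ : Q.Normal) (h3 : IsPGroup 3 ↥Q) : Q = ⊥ := by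
  have : Fact (Nat.Prime 3) := ⟨Nat.prime_three⟩
  have hcube : ∀ z ∈ Q, z ^ 3 = 1 := by
    intro z hz
    obtain ⟨k, hk⟩ := IsPGroup.iff_card.1 h3
    have hd : Nat.card ↥Q ∣ 48 := by rw [← card_gl]; exact Subgroup.card_subgroup_dvd_card Q
    have hk1 : k ≤ 1 := by
      by_contra hcon
      have h4 : 3 ^ 2 ∣ Nat.card ↥Q := by rw [hk]; exact pow_dvd_pow _ (by omega)
      have := h4.trans hd
      revert this
      decide
    have h5 : z ^ Nat.card ↥Q = 1 := by
      have := pow_card_eq_one' (x := (⟨z, hz⟩ : ↥Q))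
      exact congrArg Subtype.val this
    rw [hk] at h5
    have h6 : k = 0 ∨ k = 1 := by omega
    rcases h6 with rfl | rfl
    · rw [pow_zero, pow_one] at h5
      rw [h5, one_pow]
    · rwa [pow_one] at h5
  rw [eq_bot_iff]
  intro z hz
  rw [Subgroup.mem_bot]
  have k0 := hcube z hz
  have k1 := hcube _ (Q.mul_mem hz (hQ.conj_mem z hz g1))
  have k2 := hcube _ (Q.mul_mem hz (hQ.conj_mem z hz g2))
  have e0 := congrArg Units.val k0
  have e1 := congrArg Units.val k1
  have e2 := congrArg Units.val k2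
  have hz' : (z : Matrix (Fin 2) (Fin 2) (ZMod 3)) = !![z.1 0 0, z.1 0 1; z.1 1 0, z.1 1 1] := by
    ext i j
    fin_cases i <;> fin_cases j <;> rfl
  apply Units.ext
  rw [hz']
  apply aux
  · rw [← hz']
    exact e0
  · rw [← hz']
    exact e1
  · rw [← hz']
    exact e2

/-- **the structure from a homomorphism onto `GL(2,3)` with kernel of order `3^6`** -/
theorem concl {N : Type*} [Group N] [Finite N] (ρ : N →* GL (Fin 2) (ZMod 3)) (hs : Function.Surjective ρ)
    (hc : Nat.card N = 34992) : Nat.card ↥(Cfsg.pCore 3 N) = 3 ^ 6 ∧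
      Nonempty (N ⧸ Cfsg.pCore 3 N ≃* GL (Fin 2) (ZMod 3)) := by
  have : Fact (Nat.Prime 3) := ⟨Nat.prime_three⟩
  have h1 : Nat.card ↥ρ.ker = 3 ^ 6 := by
    have h2 := Subgroup.card_eq_card_quotient_mul_card_subgroup ρ.ker
    rw [Nat.card_congr (QuotientGroup.quotientKerEquivOfSurjective ρ hs).toEquiv, card_gl, hc] at h2
    omega
  have h3 : ρ.ker ≤ Cfsg.pCore 3 N := Cfsg.Agent.Lib.Cores.le_pCore inferInstance (IsPGroup.of_card h1)
  have h4 : Cfsg.pCore 3 N ≤ ρ.ker := by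
    have hn : (Cfsg.pCore 3 N).Normal := Cfsg.Agent.Lib.Cores.pCore_normal 3
    have hp : IsPGroup 3 ↥(Cfsg.pCore 3 N) := Cfsg.Agent.Lib.Cores.pCore_isPGroup 3
    have h5 := eq_bot_of_normal (hn.map ρ hs) (hp.map ρ)
    intro z hz
    have h6 : ρ z ∈ (Cfsg.pCore 3 N).map ρ := ⟨z, hz, rfl⟩
    rw [h5, Subgroup.mem_bot] at h6
    exact h6
  have h5 : Cfsg.pCore 3 N = ρ.ker := le_antisymm h4 h3
  have hn : (Cfsg.pCore 3 N).Normal := Cfsg.Agent.Lib.Cores.pCore_normal 3
  refine ⟨by rw [h5, h1], ⟨?_⟩⟩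
  exact (QuotientGroup.quotientMulEquivOfEq h5).trans (QuotientGroup.quotientKerEquivOfSurjective ρ hs)

end Cfsg.Agent.H835.GLAct
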