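import Cfsg.Agent.H835.NormCard
import Cfsg.Agent.H835.GLAct
import Cfsg.Agent.H835.SylFive
import Cfsg.Agent.H836.Main

/-!
# `Fi22`: the normalizer of a subgroup of order three commuting with no transposition (helper835)
-/

set_option autoImplicit false
set_option linter.unusedSectionVars false
set_option maxRecDepth 100000
set_option exponentiation.threshold 5000

namespace Cfsg.Agent.H835.NormFin

open Cfsg Cfsg.Agent.LThreeFi22 Cfsg.Agent.H836 Cfsg.Agent.H834 Cfsg.Agent.H835.Hex Cfsg.Agent.H835.HexChk Subgroup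
open Cfsg.Agent.H835.HexMain Cfsg.Agent.H835.NormChk Cfsg.Agent.H835.NormMain Cfsg.Agent.H835.NormCard
open Cfsg.Agent.H835.GLAct
open Cfsg.Spor.Fi22 Cfsg.Agent.Lib.PermNet Cfsg.Agent.Lib.PermNetOrbit Cfsg.Agent.Lib.PermNetFix
open Cfsg.Agent.Fischer Cfsg.Agent.Fischer.Fi22PtsRep
open Cfsg.Agent.Fischer.Fi22Order (nws nws_ok)
open Cfsg.Agent.KFacts.FiTT (TK)

universe v

variable {K : Type v} [Group K] (e : K ≃* Spor.Fi22) (m : Model K (TK e))

theorem key1 : ∀ c ∈ cd6, c.1 = 3 ∨ c.1 = 7 ∨ c.1 = 30 ∨ c.1 = 183 ∨ c.1 = 547 ∨ c.1 = 543 := by decide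
theorem key2 : ∀ c ∈ cd6, c.1 < 3510 := by decide

theorem six_mem {g : K} (h3 : m.φ g 3 = 3) (h7 : m.φ g 7 = 7) (h30 : m.φ g 30 = 30) (h183 : m.φ g 183 = 183)
    (h547 : m.φ g 547 = 547) (h543 : m.φ g 543 = 543) :
    ∀ w ∈ cd6.map (fun c => tw c.2), m.wd w ∈ centralizer ({g} : Set K) := by
  intro w hw
  obtain ⟨c, hc, rfl⟩ := List.mem_map.1 hw
  rw [← m.t_tw, (chk_spec c_6 c hc).1, mem_centralizer_singleton_iff]
  have hlt : c.1 < 3510 := key2 c hc
  have hfix : m.φ g c.1 = c.1 := by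
    rcases key1 c hc with h | h | h | h | h | h
    · rw [h]; exact h3
    · rw [h]; exact h7
    · rw [h]; exact h30
    · rw [h]; exact h183
    · rw [h]; exact h547
    · rw [h]; exact h543
  exact ((m.comm_iff g hlt).2 hfix).symm

theorem six_reach {g : K} (hws : ∀ w ∈ cd6.map (fun c => tw c.2), m.wd w ∈ centralizer ({g} : Set K)) {q : ℕ}
    (hq : full.testBit q = true) : ∃ k ∈ centralizer ({g} : Set K), (∀ x ∈ ([] : List ℕ), m.φ k x = x) ∧ m.φ k 3 = q :=
  m.reach hws t_6 hq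

/-- an element of `C(y)` fixing 3 and 183 is trivial -/
theorem eq_one_of_fix {g : K} (hg : g ∈ Cy e m) (h3 : m.φ g 3 = 3) (h183 : m.φ g 183 = 183) : g = 1 := by
  have hgy := (mem_Cy e m).1 hg
  obtain ⟨h7, h30⟩ := fix_y e m hg h3
  have h547 : m.φ g 547 = 547 := by rw [← y183 e m, φ_comm e m hgy, h183]
  have h543 : m.φ g 543 = 543 := by rw [← y547 e m, φ_comm e m hgy, h547]
  apply m.eq_one_of_fix
  intro p hp
  have hfull : full.testBit p = true := by rw [testBit_full]; exact decide_eq_true hp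
  obtain ⟨k, hk, hk2⟩ := six_reach e m (six_mem e m h3 h7 h30 h183 h547 h543) hfull
  have hkp := hk2.2
  have hgk : g * k = k * g := (mem_centralizer_singleton_iff.1 hk).symm
  have h1 := φ_comm e m hgk 3
  rw [h3] at h1
  rw [← hkp]
  exact h1

theorem card_Cy_le : Nat.card ↥(Cy e m) ≤ 17496 := by
  have hfin := m.finite
  have h1 := card_le_orbit e m (Cy e m) (p := 3) (by norm_num) o_sh o_pc (by
    intro g hg
    have k1 : m.t 3 * m.t (m.φ (m.wd wy) 3) = m.t (m.φ (m.wd wy) 3) * m.t 3 := by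
      rw [y3]
      exact (hexd m).pp 0 1
    rcases om_spec e m (m.φ_lt g (by norm_num)) ((om_inv e m hg (p := 3) (by norm_num)).2 k1) with h | h
    · exact h
    · exfalso
      obtain ⟨k, hk, hk2⟩ := sat_point e m (wsC_mem e m) h
      refine not_342 e m ((Cy e m).mul_mem ((Cy e m).inv_mem hk) hg) ?_
      rw [map_mul, map_inv, Equiv.Perm.mul_apply, Equiv.Perm.inv_eq_iff_eq, hk2])
  have h2 := card_le_orbit e m (Cy e m ⊓ centralizer ({m.t 3} : Set K)) (p := 183) (by norm_num) s_sh s_pc (by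
    rintro g ⟨hg, hg3⟩
    have h3 : m.φ g 3 = 3 := (m.comm_iff g (by norm_num)).1 (mem_centralizer_singleton_iff.1 hg3)
    exact orb_183 e m hg h3)
  have h3 : Nat.card ↥(Cy e m ⊓ centralizer ({m.t 3} : Set K) ⊓ centralizer ({m.t 183} : Set K)) = 1 := by
    rw [card_eq_one, eq_bot_iff]
    rintro g ⟨⟨hg, hg3⟩, hg183⟩
    rw [mem_bot]
    exact eq_one_of_fix e m hg ((m.comm_iff g (by norm_num)).1 (mem_centralizer_singleton_iff.1 hg3))
      ((m.comm_iff g (by norm_num)).1 (mem_centralizer_singleton_iff.1 hg183))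
  rw [h3] at h2
  omega

/-! ### The subgroup `V` -/

/-- the first generator of `V` -/
noncomputable def v : K := m.wd wv
/-- the second generator of `V` -/
noncomputable def x : K := m.wd wx

theorem x_eq : x e m = m.wd wl * v e m * (m.wd wl)⁻¹ := by
  unfold x v wx
  rw [m.wd_append, m.wd_append, m.wd_reverse, mul_assoc]

theorem vdata : VData (v e m) (x e m) := by
  have v3 : v e m ^ 3 = 1 := by
    have h := wd_eq e m r_vvv
    rw [m.wd_append, m.wd_append, m.wd_nil] at h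
    rw [pow_succ, pow_two, mul_assoc]
    exact h
  have x3 : x e m ^ 3 = 1 := by
    rw [x_eq, conj_pow, v3]
    group
  refine ⟨v3, x3, ?_, ?_⟩
  · have h := wd_eq e m r_vx
    rw [m.wd_append, m.wd_append] at h
    exact h
  · have fv : m.φ (v e m) 0 = 0 := by
      unfold v
      rw [m.φ_wd_apply]
      exact Nat.eq_of_beq_eq_true p_v0
    have fx : m.φ (x e m) 0 ≠ 0 := by
      unfold x
      rw [m.φ_wd_apply]
      exact Nat.ne_of_beq_eq_false p_x0
    have v1 : v e m ≠ 1 := by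
      intro h
      have h1 : m.φ (v e m) 3 ≠ 3 := by
        unfold v
        rw [m.φ_wd_apply]
        exact Nat.ne_of_beq_eq_false p_v3
      rw [h] at h1
      exact h1 (by simp)
    intro i j hi hj h
    have h0 : m.φ (x e m ^ j) 0 = 0 := by
      have h1 : x e m ^ j = (v e m ^ i)⁻¹ := (inv_eq_of_mul_eq_one_right h).symm
      rw [h1, map_inv, Equiv.Perm.inv_eq_iff_eq, map_pow]
      exact (Equiv.Perm.pow_apply_eq_self_of_apply_eq_self fv i).symm
    have hj0 : j = 0 := by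
      have h2 : j = 0 ∨ j = 1 ∨ j = 2 := by omega
      rcases h2 with h2 | h2 | h2
      · exact h2
      · rw [h2, pow_one] at h0
        exact absurd h0 fx
      · exfalso
        rw [h2] at h0
        apply fx
        have h3 : x e m = x e m ^ 2 * x e m ^ 2 := by
          rw [← pow_add, show 2 + 2 = 3 + 1 from rfl, pow_succ, x3, one_mul]
        rw [h3, map_mul, Equiv.Perm.mul_apply, h0, h0]
    refine ⟨?_, hj0⟩
    rw [hj0, pow_zero, mul_one] at h
    have h2 : i = 0 ∨ i = 1 ∨ i = 2 := by omega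
    rcases h2 with h2 | h2 | h2
    · exact h2
    · rw [h2, pow_one] at h
      exact absurd h v1
    · exfalso
      rw [h2] at h
      apply v1
      have h3 : v e m = v e m ^ 2 * v e m ^ 2 := by
        rw [← pow_add, show 2 + 2 = 3 + 1 from rfl, pow_succ, v3, one_mul]
      rw [h3, h, one_mul]

theorem vec_mk {a b : ZMod 3} {v x : K} : vec v x ![a, b] = v ^ a.val * x ^ b.val := rfl

/-- the conjugates of `v`, `x` under the generators -/
theorem conj_rel {w : List Gen} {a b c d : ZMod 3}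
    (h1 : m.wd w * v e m = v e m ^ a.val * x e m ^ b.val * m.wd w)
    (h2 : m.wd w * x e m = v e m ^ c.val * x e m ^ d.val * m.wd w) :
    m.wd w * v e m * (m.wd w)⁻¹ = vec (v e m) (x e m) ![a, b] ∧
      m.wd w * x e m * (m.wd w)⁻¹ = vec (v e m) (x e m) ![c, d] := by
  rw [vec_mk, vec_mk, h1, h2]
  constructor <;> group

theorem rel_a : m.wd wa * v e m * (m.wd wa)⁻¹ = vec (v e m) (x e m) ![1, 0] ∧
    m.wd wa * x e m * (m.wd wa)⁻¹ = vec (v e m) (x e m) ![1, 1] := by
  apply conj_rel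
  · have h := wd_eq e m r_av
    rw [m.wd_append, m.wd_append] at h
    show _ = v e m ^ 1 * x e m ^ 0 * _
    rw [pow_one, pow_zero, mul_one]
    exact h
  · have h := wd_eq e m r_ax
    rw [m.wd_append, m.wd_append, m.wd_append] at h
    show _ = v e m ^ 1 * x e m ^ 1 * _
    rw [pow_one, pow_one, mul_assoc]
    exact h

theorem rel_f : m.wd wf * v e m * (m.wd wf)⁻¹ = vec (v e m) (x e m) ![1, 0] ∧
    m.wd wf * x e m * (m.wd wf)⁻¹ = vec (v e m) (x e m) ![2, 1] := by
  apply conj_rel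
  · have h := wd_eq e m r_fv
    rw [m.wd_append, m.wd_append] at h
    show _ = v e m ^ 1 * x e m ^ 0 * _
    rw [pow_one, pow_zero, mul_one]
    exact h
  · have h := wd_eq e m r_fx
    rw [m.wd_append, m.wd_append, m.wd_append, m.wd_append] at h
    show _ = v e m ^ 2 * x e m ^ 1 * _
    rw [pow_one, pow_two, mul_assoc, mul_assoc]
    exact h

theorem rel_l : m.wd wl * v e m * (m.wd wl)⁻¹ = vec (v e m) (x e m) ![0, 1] ∧
    m.wd wl * x e m * (m.wd wl)⁻¹ = vec (v e m) (x e m) ![2, 2] := by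
  apply conj_rel
  · show _ = v e m ^ 0 * x e m ^ 1 * _
    rw [pow_one, pow_zero, one_mul, x_eq]
    group
  · have h := wd_eq e m r_lx
    rw [m.wd_append, m.wd_append, m.wd_append, m.wd_append, m.wd_append] at h
    show _ = v e m ^ 2 * x e m ^ 2 * _
    rw [pow_two, pow_two]
    simp only [mul_assoc]
    exact h

theorem rel_c : m.wd wc * v e m * (m.wd wc)⁻¹ = vec (v e m) (x e m) ![2, 0] ∧
    m.wd wc * x e m * (m.wd wc)⁻¹ = vec (v e m) (x e m) ![0, 2] := by
  apply conj_rel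
  · have h := wd_eq e m r_cv
    rw [m.wd_append, m.wd_append, m.wd_append] at h
    show _ = v e m ^ 2 * x e m ^ 0 * _
    rw [pow_two, pow_zero, mul_one]
    simp only [mul_assoc]
    exact h
  · have h := wd_eq e m r_cx
    rw [m.wd_append, m.wd_append, m.wd_append] at h
    show _ = v e m ^ 0 * x e m ^ 2 * _
    rw [pow_two, pow_zero, one_mul]
    simp only [mul_assoc]
    exact h

theorem rel_i : m.wd wi * v e m * (m.wd wi)⁻¹ = vec (v e m) (x e m) ![1, 0] ∧
    m.wd wi * x e m * (m.wd wi)⁻¹ = vec (v e m) (x e m) ![0, 2] := by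
  apply conj_rel
  · have h := wd_eq e m r_iv
    rw [m.wd_append, m.wd_append] at h
    show _ = v e m ^ 1 * x e m ^ 0 * _
    rw [pow_one, pow_zero, mul_one]
    exact h
  · have h := wd_eq e m r_ix
    rw [m.wd_append, m.wd_append, m.wd_append] at h
    show _ = v e m ^ 0 * x e m ^ 2 * _
    rw [pow_two, pow_zero, one_mul]
    simp only [mul_assoc]
    exact h

/-- the subgroup `V` -/
noncomputable def V : Subgroup K where
  carrier := {g | ∃ a, g = vec (v e m) (x e m) a}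
  mul_mem' := by
    rintro g h ⟨a, rfl⟩ ⟨b, rfl⟩
    exact ⟨a + b, (vec_add (vdata e m) a b).symm⟩
  one_mem' := ⟨0, vec_zero.symm⟩
  inv_mem' := by
    rintro g ⟨a, rfl⟩
    refine ⟨-a, ?_⟩
    apply inv_eq_of_mul_eq_one_right
    rw [← vec_add (vdata e m), add_neg_cancel, vec_zero]

theorem norm_of {g : K} {a b : A2} (h : g * v e m * g⁻¹ = vec (v e m) (x e m) a ∧
    g * x e m * g⁻¹ = vec (v e m) (x e m) b) : g ∈ normalizer ((V e m : Subgroup K) : Set K) := by
  have hfin := m.finite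
  apply SylFive.mem_normalizer_of_le
  rintro _ ⟨_, ⟨c, rfl⟩, rfl⟩
  have h1 : (MulAut.conj g).toMonoidHom (vec (v e m) (x e m) c) =
      (g * v e m * g⁻¹) ^ (c 0).val * (g * x e m * g⁻¹) ^ (c 1).val := by
    show g * (v e m ^ (c 0).val * x e m ^ (c 1).val) * g⁻¹ = _
    rw [conj_pow, conj_pow]
    group
  rw [h1, h.1, h.2]
  exact (V e m).mul_mem ((V e m).pow_mem ⟨a, rfl⟩ _) ((V e m).pow_mem ⟨b, rfl⟩ _)

theorem of_norm {g : K} (hg : g ∈ normalizer ((V e m : Subgroup K) : Set K)) :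
    (∃ a, g * v e m * g⁻¹ = vec (v e m) (x e m) a) ∧ ∃ b, g * x e m * g⁻¹ = vec (v e m) (x e m) b := by
  have h1 : v e m ∈ V e m := ⟨![1, 0], vec_e0.symm⟩
  have h2 : x e m ∈ V e m := ⟨![0, 1], vec_e1.symm⟩
  exact ⟨(mem_normalizer_iff.1 hg _).1 h1, (mem_normalizer_iff.1 hg _).1 h2⟩

/-- **`|C(y)| = 17496` and `C(y)` normalizes `V`** -/
theorem card_Cy : Nat.card ↥(Cy e m) = 17496 ∧ Cy e m ≤ normalizer ((V e m : Subgroup K) : Set K) := by
  have hfin := m.finite
  set H := Cy e m ⊓ normalizer ((V e m : Subgroup K) : Set K) with hH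
  have hC : ∀ w ∈ wsC, m.wd w ∈ H := by
    intro w hw
    refine ⟨wsC_mem e m w hw, ?_⟩
    unfold wsC at hw
    simp only [List.mem_cons, List.not_mem_nil, or_false] at hw
    rcases hw with rfl | rfl | rfl
    · exact norm_of e m (rel_c e m)
    · exact norm_of e m (rel_l e m)
    · exact norm_of e m (rel_a e m)
  have hS : ∀ w ∈ wsS, m.wd w ∈ H := by
    intro w hw
    refine ⟨wsS_mem e m w hw, ?_⟩
    unfold wsS at hw
    simp only [List.mem_cons, List.not_mem_nil, or_false] at hw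
    rcases hw with rfl | rfl | rfl
    · exact norm_of e m (rel_f e m)
    · exact norm_of e m (rel_l e m)
    · exact norm_of e m (rel_c e m)
  have h1 := m.lv_le H hC n0
  have h2 := m.lv_le H hS n1
  rw [m.card_stabL_nil_sub] at h1
  have h3 : 1 ≤ Nat.card ↥(stabL (m.φ.comp H.subtype) [183, 3]) := Nat.card_pos
  have h4 : 17496 ≤ Nat.card ↥H := by omega
  have h5 := card_Cy_le e m
  have h6 : H = Cy e m := eq_of_le_of_card_ge inf_le_left (by omega)
  refine ⟨le_antisymm h5 (by rw [← h6]; exact h4), ?_⟩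
  rw [← h6]
  exact inf_le_right

/-! ### The normalizer -/

theorem y_ne : m.wd wy ≠ 1 := by
  intro h
  have := y3 e m
  rw [h] at this
  simp at this

theorem card_Y : Nat.card ↥(zpowers (m.wd wy)) = 3 := by
  have := Fact.mk Nat.prime_three
  rw [Nat.card_zpowers]
  exact orderOf_eq_prime (cube_Y m) (y_ne e m)

theorem i_inv : m.wd wi * m.wd wy * (m.wd wi)⁻¹ = (m.wd wy)⁻¹ := by
  have h := wd_eq e m r_iy
  rw [m.wd_append, m.wd_append, m.wd_reverse] at h
  rw [h]
  group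

theorem i_mem : m.wd wi ∈ normalizer ((zpowers (m.wd wy) : Subgroup K) : Set K) := by
  have hfin := m.finite
  apply SylFive.mem_normalizer_of_le
  rw [map_conj_zpowers, zpowers_le, i_inv]
  exact (zpowers _).inv_mem (mem_zpowers _)

theorem i_notMem : m.wd wi ∉ Cy e m := by
  intro h
  have h1 := i_inv e m
  rw [(mem_Cy e m).1 h] at h1
  have h2 : m.wd wy = (m.wd wy)⁻¹ := by
    rw [← h1]; group
  apply y_ne e m
  have h3 := cube_Y m
  have h4 : m.wd wy * m.wd wy = 1 := by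
    nth_rw 2 [h2]; group
  rw [pow_succ, pow_two, h4, one_mul] at h3
  exact h3

/-- the normalizer of `⟨y⟩` -/
noncomputable def Ny : Subgroup K := normalizer ((zpowers (m.wd wy) : Subgroup K) : Set K)

theorem card_Ny : Nat.card ↥(Ny e m) = 34992 := by
  have hfin := m.finite
  obtain ⟨k, hk, h⟩ := Sylow.normalizer_centralizer Nat.prime_three (card_Y e m)
  have h1 : centralizer ((zpowers (m.wd wy) : Subgroup K) : Set K) = Cy e m := Main.centralizer_zpowers _
  rw [h1, (card_Cy e m).1] at h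
  have hk2 : k = 1 ∨ k = 2 := (Nat.dvd_prime Nat.prime_two).1 hk
  rcases hk2 with rfl | rfl
  · exfalso
    have h2 : Cy e m = Ny e m := by
      apply eq_of_le_of_card_ge
      · rw [← h1]
        exact centralizer_le_normalizer _
      · show Nat.card ↥(normalizer ((zpowers (m.wd wy) : Subgroup K) : Set K)) ≤ _
        rw [h, (card_Cy e m).1]
    apply i_notMem e m
    rw [h2]
    exact i_mem e m
  · exact h

theorem Ny_le : Ny e m ≤ normalizer ((V e m : Subgroup K) : Set K) := by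
  have hfin := m.finite
  intro n hn
  have h1 : n * m.wd wy * n⁻¹ ∈ zpowers (m.wd wy) := (mem_normalizer_iff.1 hn _).1 (mem_zpowers _)
  obtain ⟨k, hk⟩ := mem_zpowers_iff.1 h1
  have h2 : n * m.wd wy * n⁻¹ = 1 ∨ n * m.wd wy * n⁻¹ = m.wd wy ∨ n * m.wd wy * n⁻¹ = (m.wd wy)⁻¹ := by
    rw [← hk]
    have h3 : (m.wd wy) ^ k = (m.wd wy) ^ (k % 3) := by
      conv_lhs => rw [← Int.emod_add_mul_ediv k 3, zpow_add, zpow_mul]
      have : (m.wd wy) ^ (3 : ℤ) = 1 := by exact_mod_cast cube_Y m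
      rw [this, one_zpow, mul_one]
    rw [h3]
    have h4 : k % 3 = 0 ∨ k % 3 = 1 ∨ k % 3 = 2 := by omega
    rcases h4 with h | h | h
    · left; rw [h, zpow_zero]
    · right; left; rw [h, zpow_one]
    · right; right
      rw [h]
      apply eq_inv_of_mul_eq_one_left
      have : (m.wd wy) ^ (2 : ℤ) * m.wd wy = (m.wd wy) ^ (3 : ℤ) := by
        rw [← zpow_add_one]; rfl
      rw [this]
      exact_mod_cast cube_Y m
  rcases h2 with h2 | h2 | h2
  · exact absurd (conj_eq_one_iff.1 h2) (y_ne e m)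
  · apply (card_Cy e m).2
    rw [mem_Cy]
    exact mul_inv_eq_iff_eq_mul.1 h2
  · have h3 : (m.wd wi)⁻¹ * n ∈ Cy e m := by
      rw [mem_Cy, ← mul_inv_eq_iff_eq_mul]
      calc (m.wd wi)⁻¹ * n * m.wd wy * ((m.wd wi)⁻¹ * n)⁻¹
          = (m.wd wi)⁻¹ * (n * m.wd wy * n⁻¹) * m.wd wi := by group
        _ = (m.wd wi)⁻¹ * (m.wd wi * m.wd wy * (m.wd wi)⁻¹) * m.wd wi := by rw [h2, i_inv]
        _ = m.wd wy := by group
    have h4 := (normalizer ((V e m : Subgroup K) : Set K)).mul_mem (norm_of e m (rel_i e m)) ((card_Cy e m).2 h3)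
    have h5 : m.wd wi * ((m.wd wi)⁻¹ * n) = n := by group
    rwa [h5] at h4

theorem Cy_le_Ny : Cy e m ≤ Ny e m := by
  have h1 : centralizer ((zpowers (m.wd wy) : Subgroup K) : Set K) = Cy e m := Main.centralizer_zpowers _
  rw [← h1]
  exact centralizer_le_normalizer _

/-- **the structure of the normalizer** -/
theorem Ny_concl : Nat.card ↥(Cfsg.pCore 3 ↥(Ny e m)) = 3 ^ 6 ∧
    Nonempty (↥(Ny e m) ⧸ Cfsg.pCore 3 ↥(Ny e m) ≃* GL (Fin 2) (ZMod 3)) := by
  have hfin := m.finite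
  obtain ⟨ρ, hρ⟩ := exists_rho (vdata e m) (Ny e m) (fun n hn => of_norm e m (Ny_le e m hn))
  have hU := rho_eq (vdata e m) hρ (n := ⟨m.wd wa, Cy_le_Ny e m (wa_mem e m)⟩) (rel_a e m).1 (rel_a e m).2
  have hL := rho_eq (vdata e m) hρ (n := ⟨m.wd wl, Cy_le_Ny e m (wl_mem e m)⟩) (rel_l e m).1 (rel_l e m).2
  have hC := rho_eq (vdata e m) hρ (n := ⟨m.wd wc, Cy_le_Ny e m (wc_mem e m)⟩) (rel_c e m).1 (rel_c e m).2
  have hD := rho_eq (vdata e m) hρ (n := ⟨m.wd wi, i_mem e m⟩) (rel_i e m).1 (rel_i e m).2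
  exact concl ρ (surj ρ hU hL hC hD) (card_Ny e m)

/-- **S5480 for `K ≃* Spor.Fi22`** -/
theorem main (Y : Subgroup K) (hY : Nat.card Y = 3)
    (h0 : ∀ d ∈ TK e, ¬ Y ≤ centralizer ({d} : Set K)) :
    Nat.card ↥(Cfsg.pCore 3 ↥(normalizer ((Y : Subgroup K) : Set K))) = 3 ^ 6 ∧
      Nonempty (↥(normalizer ((Y : Subgroup K) : Set K)) ⧸ Cfsg.pCore 3 ↥(normalizer ((Y : Subgroup K) : Set K)) ≃*
        GL (Fin 2) (ZMod 3)) := by
  obtain ⟨m⟩ := Cfsg.Agent.H834.Bridge.model_of_iso e (D := TK e) rfl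
  obtain ⟨y, hy, hy1, -, rfl⟩ := Main.exists_gen Nat.prime_three hY
  have hF : ∀ t ∈ TK e, y * t ≠ t * y := by
    intro t ht h
    apply h0 t ht
    rw [zpowers_le]
    exact mem_centralizer_singleton_iff.2 h
  obtain ⟨g, hg⟩ := free_conj e m hy hF
  have h1 : zpowers y = zpowers ((m.conj g⁻¹).wd wy) := by
    have h2 : (m.conj g⁻¹).wd wy = g⁻¹ * m.wd wy * g⁻¹⁻¹ := rfl
    rw [h2, ← map_conj_zpowers, ← hg, map_map_conj, inv_mul_cancel, map_one]
    exact (Subgroup.map_id _).symm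
  rw [h1]
  exact Ny_concl e (m.conj g⁻¹)

end Cfsg.Agent.H835.NormFin
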