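import Cfsg.Agent.H835.NormMain

/-!
# `Fi22`: the centralizer of the fixed point free element `y` of order three has order at most 17496 (helper835)
-/

set_option autoImplicit false
set_option linter.unusedSectionVars false
set_option maxRecDepth 100000
set_option exponentiation.threshold 5000

namespace Cfsg.Agent.H835.NormCard

open Cfsg Cfsg.Agent.LThreeFi22 Cfsg.Agent.H836 Cfsg.Agent.H834 Cfsg.Agent.H835.Hex Cfsg.Agent.H835.HexChk Subgroup
open Cfsg.Agent.H835.HexMain Cfsg.Agent.H835.NormChk Cfsg.Agent.H835.NormMain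
open Cfsg.Spor.Fi22 Cfsg.Agent.Lib.PermNet Cfsg.Agent.Lib.PermNetOrbit Cfsg.Agent.Lib.PermNetFix
open Cfsg.Agent.Fischer Cfsg.Agent.Fischer.Fi22PtsRep
open Cfsg.Agent.Fischer.Fi22Order (nws nws_ok)
open Cfsg.Agent.KFacts.FiTT (TK)

universe v

variable {K : Type v} [Group K] (e : K ≃* Spor.Fi22) (m : Model K (TK e))

/-- the points of the hexad under an element with a pattern -/
theorem pat_φ {g : K} {q : Equiv.Perm (Fin 6) × Equiv.Perm (Fin 3)} (h : Pat (fun i => m.t (Pf i)) (Bk m) g q)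
    (i : Fin 6) : m.φ g (Pf i) = Pf (q.1 i) := by
  apply m.t_inj (m.φ_lt g (Pf_lt i)) (Pf_lt _)
  rw [← m.conj_t g (Pf_lt i)]
  exact h.hp i

theorem Pf_mem' : ∀ i, Pf i ∈ [353, 507, 342, 30, 7, 3] := by decide

theorem testBit_of_land' {X Y p : ℕ} (h : Nat.beq (Nat.land X Y) X = true) (hp : X.testBit p = true) :
    Y.testBit p = true := by
  have h1 : X &&& Y = X := Nat.eq_of_beq_eq_true h
  rw [← h1, Nat.testBit_and, Bool.and_eq_true] at hp
  exact hp.2

/-- the members commuting with the other three -/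
theorem mem_M' {x : K} (hx : x ∈ TK e) : (m.t 342 * x = x * m.t 342 ∧ m.t 507 * x = x * m.t 507 ∧
    m.t 353 * x = x * m.t 353) ↔ x ∈ Hexd.M (TK e) (fun i => m.t (Pf i)) := by
  have H := hexd m
  constructor
  · rintro ⟨h0, h1, h2⟩
    obtain ⟨q, hq, rfl⟩ := m.mem_iff.1 hx
    have h3 : q ∈ PA := by
      rw [← testBit_maskL, ← Nat.eq_of_beq_eq_true m_2, testBit_interB]
      refine ⟨by rw [testBit_full]; exact decide_eq_true hq, ?_⟩
      intro c hc
      rw [m.testBit_cmk hq]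
      have e3 := (chk_spec chkP (342, [.i, .e, .f, .d, .e, .b, .c, .d, .h, .g, .f, .e, .d, .c, .b], .a) (by decide)).1
      have e7 := (chk_spec chkP (507, [.i, .d, .h, .e, .f, .d, .e, .c, .d, .h, .g, .f, .e, .d, .c], .b) (by decide)).1
      have e30 := (chk_spec chkP (353, [.i, .h, .e, .f, .d, .e, .c, .d, .h, .g, .f, .e, .d, .c, .b], .a) (by decide)).1
      simp only [List.mem_cons, List.not_mem_nil, or_false] at hc
      rcases hc with rfl | rfl | rfl
      · rw [e3, m.fix_iff hq]; exact h0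
      · rw [e7, m.fix_iff hq]; exact h1
      · rw [e30, m.fix_iff hq]; exact h2
    rw [H.mem_M]
    unfold PA at h3
    rw [List.mem_append, List.mem_append, List.mem_append] at h3
    rcases h3 with h3 | h3 | h3 | h3
    · left
      obtain ⟨i, rfl⟩ := PP_ex q h3
      exact ⟨i, rfl⟩
    · exact Or.inr ⟨0, q, h3, rfl⟩
    · exact Or.inr ⟨1, q, h3, rfl⟩
    · exact Or.inr ⟨2, q, h3, rfl⟩
  · intro h
    have key : ∀ i, m.t (Pf i) * x = x * m.t (Pf i) := by
      intro i
      rcases H.mem_M.1 h with ⟨j, rfl⟩ | ⟨j, hj⟩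
      · exact H.pp i j
      · exact H.pB i j x hj
    exact ⟨key 3, key 4, key 5⟩

theorem mem_M_iff {x : K} : x ∈ Hexd.M (TK e) (fun i => m.t (Pf i)) ↔ x ∈ TK e ∧ m.t 3 * x = x * m.t 3 ∧
    m.t 7 * x = x * m.t 7 ∧ m.t 30 * x = x * m.t 30 := Iff.rfl

theorem conj_side {g x : K} {p q : ℕ} (hp : p < 3510) (h : m.φ g p = q) :
    m.t q * (g * x * g⁻¹) = g * x * g⁻¹ * m.t q ↔ m.t p * x = x * m.t p := by
  rw [← h, ← m.conj_t g hp, conj_comm_iff]

/-- **the two halves of the hexad are not fused in `C(y)`** -/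
theorem not_342 {g : K} (hg : g ∈ Cy e m) : m.φ g 3 ≠ 342 := by
  intro h3
  have I := inv_of_iso e
  have hfin := m.finite
  have H := hexd m
  have hgy := (mem_Cy e m).1 hg
  have h7 : m.φ g 7 = 507 := by
    rw [← y3 e m, φ_comm e m hgy, h3, y342]
  have h30 : m.φ g 30 = 353 := by
    rw [← y7 e m, φ_comm e m hgy, h7, y507]
  obtain ⟨q, hq⟩ := H.exists_pat (y := g) (by
    intro t
    rw [mem_M_iff]
    constructor
    · rintro ⟨k0, k1, k2, k3⟩
      rw [← mem_M' e m (I.ctx.conj t k0 g)]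
      exact ⟨(conj_side e m (by norm_num) h3).2 k1, (conj_side e m (by norm_num) h7).2 k2,
        (conj_side e m (by norm_num) h30).2 k3⟩
    · intro k
      have k0 : t ∈ TK e := (I.ctx.conj_iff g).1 k.1
      obtain ⟨k1, k2, k3⟩ := (mem_M' e m (I.ctx.conj t k0 g)).2 k
      exact ⟨k0, (conj_side e m (by norm_num) h3).1 k1, (conj_side e m (by norm_num) h7).1 k2,
        (conj_side e m (by norm_num) h30).1 k3⟩)
  have q0 : q.1 0 = 3 := Pf_inj _ _ ((pat_φ e m hq 0).symm.trans h3)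
  have q1 : q.1 1 = 4 := Pf_inj _ _ ((pat_φ e m hq 1).symm.trans h7)
  have q2 : q.1 2 = 5 := Pf_inj _ _ ((pat_φ e m hq 2).symm.trans h30)
  have hcomm : q * (S1, b0) = (S1, b0) * q := by
    refine H.uniq (hq.mul (patY m)) ?_
    rw [hgy]
    exact (patY m).mul hq
  have hS : ∀ i, q.1 (S1 i) = S1 (q.1 i) := by
    intro i
    have h := congrArg Prod.fst hcomm
    exact DFunLike.congr_fun h i
  have q4 : q.1 4 = S1 (q.1 3) := hS 3
  have q5 : q.1 5 = S1 (q.1 4) := hS 4
  have hinj := q.1.injective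
  have hr := (H.inv (patG m)).mul hq
  set g' := (m.wd wg)⁻¹ * g with hg'
  set r : Equiv.Perm (Fin 6) × Equiv.Perm (Fin 3) := (sx, 1)⁻¹ * q with hrdef
  have hri : ∀ i, r.1 i = sx⁻¹ (q.1 i) := fun i => rfl
  have r0 : r.1 0 = 0 := by rw [hri, q0]; decide
  have r1 : r.1 1 = 1 := by rw [hri, q1]; decide
  have r2 : r.1 2 = 2 := by rw [hri, q2]; decide
  have f0 : m.φ g' 3 = 3 := by
    have := pat_φ e m hr 0
    rw [r0] at this
    exact this
  have f1 : m.φ g' 7 = 7 := by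
    have := pat_φ e m hr 1
    rw [r1] at this
    exact this
  have f2 : m.φ g' 30 = 30 := by
    have := pat_φ e m hr 2
    rw [r2] at this
    exact this
  have fin : ∀ i : Fin 6, r.1 i = i → lvB [30, 7, 3] ws3 (Pf i) 2 3 = true → ∀ j, r.1 j = j := by
    intro i hi hl j
    have h1 : m.φ g' (Pf i) = Pf i := by
      have := pat_φ e m hr i
      rw [hi] at this
      exact this
    have h2 := fix_hex e m hl (Pf_mem' i) f0 f1 f2 h1 (Pf j) (Pf_mem' j)
    exact Pf_inj _ _ ((pat_φ e m hr j).symm.trans h2)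
  have hcase : q.1 3 = 0 ∨ q.1 3 = 1 ∨ q.1 3 = 2 := by
    have key : ∀ x : Fin 6, x ≠ 3 → x ≠ 4 → x ≠ 5 → x = 0 ∨ x = 1 ∨ x = 2 := by decide
    apply key
    · exact fun h => absurd (hinj (h.trans q0.symm)) (by decide)
    · exact fun h => absurd (hinj (h.trans q1.symm)) (by decide)
    · exact fun h => absurd (hinj (h.trans q2.symm)) (by decide)
  rcases hcase with h | h | h
  · have r5 : r.1 5 = 5 := by rw [hri, q5, q4, h]; decide
    have r3 : r.1 3 = 4 := by rw [hri, h]; decide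
    have := fin 5 r5 l3'' 3
    rw [r3] at this
    exact absurd this (by decide)
  · have r3 : r.1 3 = 3 := by rw [hri, h]; decide
    have r4 : r.1 4 = 5 := by rw [hri, q4, h]; decide
    have := fin 3 r3 l3 4
    rw [r4] at this
    exact absurd this (by decide)
  · have r4 : r.1 4 = 4 := by rw [hri, q4, h]; decide
    have r3 : r.1 3 = 5 := by rw [hri, h]; decide
    have := fin 4 r4 l3' 3
    rw [r3] at this
    exact absurd this (by decide)

theorem c3183 : ∀ i, m.t (Pf i) * m.t 183 ≠ m.t 183 * m.t (Pf i) := by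
  intro i
  fin_cases i
  · exact nc_of e m (c := ([.c, .b], .a)) (by norm_num) (Nat.eq_of_beq_eq_true (by decide +kernel)) (by decide +kernel)
  · exact nc_of e m (c := ([.d, .c], .b)) (by norm_num) (Nat.eq_of_beq_eq_true (by decide +kernel)) (by decide +kernel)
  · exact nc_of e m (c := ([.i, .h, .d], .c)) (by norm_num) (Nat.eq_of_beq_eq_true (by decide +kernel))
      (by decide +kernel)
  · exact nc_of e m (c := ([.i, .e, .f, .d, .e, .b, .c, .d, .h, .g, .f, .e, .d, .c, .b], .a)) (by norm_num)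
      (Nat.eq_of_beq_eq_true (by decide +kernel)) (by decide +kernel)
  · exact nc_of e m (c := ([.i, .d, .h, .e, .f, .d, .e, .c, .d, .h, .g, .f, .e, .d, .c], .b)) (by norm_num)
      (Nat.eq_of_beq_eq_true (by decide +kernel)) (by decide +kernel)
  · exact nc_of e m (c := ([.i, .h, .e, .f, .d, .e, .c, .d, .h, .g, .f, .e, .d, .c, .b], .a)) (by norm_num)
      (Nat.eq_of_beq_eq_true (by decide +kernel)) (by decide +kernel)

/-- elements of `C(y)` fixing 3 -/
theorem fix_y {g : K} (hg : g ∈ Cy e m) (h3 : m.φ g 3 = 3) : m.φ g 7 = 7 ∧ m.φ g 30 = 30 := by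
  have hgy := (mem_Cy e m).1 hg
  have h7 : m.φ g 7 = 7 := by
    rw [← y3 e m, φ_comm e m hgy, h3]
  refine ⟨h7, ?_⟩
  rw [← y7 e m, φ_comm e m hgy, h7]

theorem exists_patS {g : K} (hg : g ∈ Cy e m) (h3 : m.φ g 3 = 3) :
    ∃ q, Pat (fun i => m.t (Pf i)) (Bk m) g q := by
  have I := inv_of_iso e
  have hfin := m.finite
  have H := hexd m
  obtain ⟨h7, h30⟩ := fix_y e m hg h3
  apply H.exists_pat
  intro t
  rw [mem_M_iff, mem_M_iff]
  constructor
  · rintro ⟨k0, k1, k2, k3⟩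
    exact ⟨I.ctx.conj t k0 g, (conj_side e m (by norm_num) h3).2 k1, (conj_side e m (by norm_num) h7).2 k2,
      (conj_side e m (by norm_num) h30).2 k3⟩
  · rintro ⟨k0, k1, k2, k3⟩
    exact ⟨(I.ctx.conj_iff g).1 k0, (conj_side e m (by norm_num) h3).1 k1, (conj_side e m (by norm_num) h7).1 k2,
      (conj_side e m (by norm_num) h30).1 k3⟩

/-- a point commuting with 507 is not an image of 183 -/
theorem excl_507 {g : K} (hg : g ∈ Cy e m) (h3 : m.φ g 3 = 3) {p : ℕ} (hp : p < 3510)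
    (h : m.t p * m.t 507 = m.t 507 * m.t p) : m.φ g 183 ≠ p := by
  rintro rfl
  have hfin := m.finite
  obtain ⟨q, hq⟩ := exists_patS e m hg h3
  have h1 := pat_φ e m hq (q.1⁻¹ 4)
  have h2 : q.1 (q.1⁻¹ 4) = 4 := by
    rw [← Equiv.Perm.mul_apply, mul_inv_cancel, Equiv.Perm.one_apply]
  rw [h2] at h1
  have h4 : m.t (m.φ g (Pf (q.1⁻¹ 4))) * m.t (m.φ g 183) = m.t (m.φ g 183) * m.t (m.φ g (Pf (q.1⁻¹ 4))) := by
    rw [h1]
    exact h.symm
  rw [com_conj e m g (Pf_lt _) (by norm_num)] at h4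
  exact c3183 e m _ h4

/-- a point `p` for which `t p` moves `k` to a point of `Ω` is not an image of 183 -/
theorem excl_f {g : K} (hg : g ∈ Cy e m) {p k a b : ℕ} (hk : m.φ g k = k) (ha : a < 3510)
    (h1 : m.φ (m.t 183) k = a) (h2 : m.φ (m.t p) k = b)
    (na : m.t a * m.t (m.φ (m.wd wy) a) ≠ m.t (m.φ (m.wd wy) a) * m.t a)
    (cb : m.t b * m.t (m.φ (m.wd wy) b) = m.t (m.φ (m.wd wy) b) * m.t b) : m.φ g 183 ≠ p := by
  intro hgp
  have h3 : m.φ g a = b := by
    rw [← h1, ← h2]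
    have h4 : g * m.t 183 = m.t p * g := by
      rw [← hgp, ← m.conj_t g (by norm_num)]
      group
    rw [← Equiv.Perm.mul_apply, ← map_mul, h4, map_mul, Equiv.Perm.mul_apply, hk]
  apply na
  rw [← om_inv e m hg ha, h3]
  exact cb

theorem testBit_minus {X : ℕ} {c : List Gen × Gen} {q : ℕ} (hX : X.testBit q = true)
    (h : ¬ (cmk c).testBit q = true) : (minus X c).testBit q = true := by
  show (X ^^^ (X &&& cmk c)).testBit q = true
  rw [Nat.testBit_xor, Nat.testBit_and, hX]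
  simp only [Bool.not_eq_true] at h
  rw [h]
  rfl

/-- the stabiliser of 3 in `C(y)` -/
theorem wsS_mem' : ∀ w ∈ wsS, m.wd w ∈ Cy e m ⊓ stabL m.φ [30, 7, 3] := by
  intro w hw
  refine ⟨wsS_mem e m w hw, ?_⟩
  intro q hq
  rw [m.φ_wd]
  exact fixAllB_spec (nws_ok wsS) f_S q hq _ (List.mem_map_of_mem hw)

/-- **the orbit of 183** -/
theorem orb_183 {g : K} (hg : g ∈ Cy e m) (h3 : m.φ g 3 = 3) : (oS 183).testBit (m.φ g 183) = true := by
  have hfin := m.finite
  obtain ⟨h7, h30⟩ := fix_y e m hg h3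
  have hlt : m.φ g 183 < 3510 := m.φ_lt g (by norm_num)
  -- the image lies in `E240`
  have k1 : m.t 183 * m.t (m.φ (m.wd wy) 183) = m.t (m.φ (m.wd wy) 183) * m.t 183 := by
    rw [y183]
    exact c_of e m (c := ([.c, .d, .e, .b, .c, .d, .h, .f, .e, .d, .c, .b], .a)) (by norm_num)
      (Nat.eq_of_beq_eq_true (by decide +kernel)) (by decide +kernel)
  have k2 := (om_inv e m hg (p := 183) (by norm_num)).2 k1
  have k3 : (Nat.lor (oC 3) (oC 342)).testBit (m.φ g 183) = true := by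
    show (oC 3 ||| oC 342).testBit (m.φ g 183) = true
    rw [Nat.testBit_or, Bool.or_eq_true]
    exact om_spec e m hlt k2
  have n3 : ∀ i : Fin 6, m.φ g (Pf i) = Pf i → ∀ c, twp c = Pf i → ¬ (cmk c).testBit (m.φ g 183) = true := by
    intro i hi c hc
    rw [m.testBit_cmk hlt, hc, m.fix_iff hlt]
    have := com_conj e m g (Pf_lt i) (q := 183) (by norm_num)
    rw [hi] at this
    rw [this]
    exact c3183 e m i
  have hE : E240.testBit (m.φ g 183) = true := by
    unfold E240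
    apply testBit_minus
    · apply testBit_minus
      · apply testBit_minus k3
        exact n3 0 h3 _ (Nat.eq_of_beq_eq_true (by decide +kernel))
      · exact n3 1 h7 _ (Nat.eq_of_beq_eq_true (by decide +kernel))
    · exact n3 2 h30 _ (Nat.eq_of_beq_eq_true (by decide +kernel))
  have hs := s_all
  rw [seqB_eq] at hs
  have h4 := testBit_of_land' hs hE
  have h5 : (oS 183 ||| (oS 637 ||| (oS 682 ||| (oS 717 ||| (oS 750 ||| oS 830))))).testBit (m.φ g 183) = true := h4
  simp only [Nat.testBit_or, Bool.or_eq_true] at h5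
  have key : ∀ p, (oS p).testBit (m.φ g 183) = true → ∃ g' ∈ Cy e m, m.φ g' 3 = 3 ∧ m.φ g' 7 = 7 ∧ m.φ g' 183 = p := by
    intro p hp
    obtain ⟨k, ⟨hk1, hk2⟩, hk3⟩ := sat_point e m (wsS_mem' e m) hp
    have f3 : m.φ k 3 = 3 := hk2 3 (by simp)
    have f7 : m.φ k 7 = 7 := hk2 7 (by simp)
    refine ⟨k⁻¹ * g, (Cy e m).mul_mem ((Cy e m).inv_mem hk1) hg, ?_, ?_, ?_⟩
    · rw [map_mul, map_inv, Equiv.Perm.mul_apply, h3, Equiv.Perm.inv_eq_iff_eq, f3]
    · rw [map_mul, map_inv, Equiv.Perm.mul_apply, h7, Equiv.Perm.inv_eq_iff_eq, f7]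
    · rw [map_mul, map_inv, Equiv.Perm.mul_apply, Equiv.Perm.inv_eq_iff_eq, hk3]
  have nyc : ∀ {c : List Gen × Gen} {p q : ℕ}, q < 3510 → twp c = p → Nat.beq (ptWord (nw (tw c)) q) q = true →
      Nat.beq (ptWord (nw wy) p) q = true → m.t p * m.t (m.φ (m.wd wy) p) = m.t (m.φ (m.wd wy) p) * m.t p := by
    intro c p q hq hc h1 h2
    rw [y_apply e m p q h2]
    exact c_of e m hq hc h1
  have nyn : ∀ {c : List Gen × Gen} {p q : ℕ}, q < 3510 → twp c = p → Nat.beq (ptWord (nw (tw c)) q) q = false →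
      Nat.beq (ptWord (nw wy) p) q = true → m.t p * m.t (m.φ (m.wd wy) p) ≠ m.t (m.φ (m.wd wy) p) * m.t p := by
    intro c p q hq hc h1 h2
    rw [y_apply e m p q h2]
    exact nc_of e m hq hc h1
  have fpt : ∀ {c : List Gen × Gen} {p k q : ℕ}, twp c = p → Nat.beq (ptWord (nw (tw c)) k) q = true →
      m.φ (m.t p) k = q := by
    intro c p k q hc h1
    rw [← hc, m.t_tw, m.φ_wd_apply]
    exact Nat.eq_of_beq_eq_true h1
  have a3 : m.φ (m.t 183) 3 = 131 := fpt (c := ([.c, .d, .e, .b, .c, .d, .h, .f, .e, .d, .c, .b], .a))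
    (Nat.eq_of_beq_eq_true (by decide +kernel)) (by decide +kernel)
  have a7 : m.φ (m.t 183) 7 = 82 := fpt (c := ([.c, .d, .e, .b, .c, .d, .h, .f, .e, .d, .c, .b], .a))
    (Nat.eq_of_beq_eq_true (by decide +kernel)) (by decide +kernel)
  have na3 := nyn (c := ([.d, .e, .c, .d, .h, .f, .e, .d, .c], .b)) (p := 131) (q := 357) (by norm_num)
    (Nat.eq_of_beq_eq_true (by decide +kernel)) (by decide +kernel) (by decide +kernel)
  have na7 := nyn (c := ([.e, .c, .d, .h, .f, .e, .d, .c, .b], .a)) (p := 82) (q := 275) (by norm_num)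
    (Nat.eq_of_beq_eq_true (by decide +kernel)) (by decide +kernel) (by decide +kernel)
  rcases h5 with h5 | h5 | h5 | h5 | h5 | h5
  · exact h5
  · exfalso
    obtain ⟨g', hg', f3, -, h6⟩ := key _ h5
    exact excl_507 e m hg' f3 (p := 637) (by norm_num) (c_of e m
      (c := ([.b, .c, .d, .h, .e, .f, .d, .e, .c, .d, .h, .g, .f, .e, .d, .c], .b)) (by norm_num)
      (Nat.eq_of_beq_eq_true (by decide +kernel)) (by decide +kernel)) h6
  · exfalso
    obtain ⟨g', hg', f3, -, h6⟩ := key _ h5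
    refine excl_f e m hg' f3 (by norm_num) a3 (b := 1181) (fpt (c := ([.e, .d, .h, .i, .f, .c, .d, .e, .b, .c, .d, .h,
      .g, .f, .e, .d, .c, .b], .a)) (Nat.eq_of_beq_eq_true (by decide +kernel)) (by decide +kernel)) na3 ?_ h6
    exact nyc (c := ([.e, .a, .b, .c, .d, .h, .i, .f, .c, .d, .e, .b, .c, .d, .h, .g, .f, .e, .d, .c, .b], .a))
      (q := 1258) (by norm_num) (Nat.eq_of_beq_eq_true (by decide +kernel)) (by decide +kernel) (by decide +kernel)
  · exfalso
    obtain ⟨g', hg', f3, -, h6⟩ := key _ h5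
    refine excl_f e m hg' f3 (by norm_num) a3 (b := 1266) (fpt (c := ([.e, .f, .d, .e, .c, .d, .h, .i, .b, .c, .d, .h,
      .g, .f, .e, .d, .c, .b], .a)) (Nat.eq_of_beq_eq_true (by decide +kernel)) (by decide +kernel)) na3 ?_ h6
    exact nyc (c := ([.e, .f, .d, .e, .a, .b, .c, .d, .h, .i, .e, .b, .c, .d, .h, .g, .f, .e, .d, .c, .b], .a))
      (q := 1370) (by norm_num) (Nat.eq_of_beq_eq_true (by decide +kernel)) (by decide +kernel) (by decide +kernel)
  · exfalso
    obtain ⟨g', hg', f3, -, h6⟩ := key _ h5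
    exact excl_507 e m hg' f3 (p := 750) (by norm_num) (c_of e m
      (c := ([.h, .d, .e, .c, .d, .h, .i, .f, .e, .c, .d, .h, .g, .f, .e, .d, .c, .b], .a)) (by norm_num)
      (Nat.eq_of_beq_eq_true (by decide +kernel)) (by decide +kernel)) h6
  · exfalso
    obtain ⟨g', hg', f3, f7, h6⟩ := key _ h5
    refine excl_f e m hg' f7 (by norm_num) a7 (b := 1182) (fpt (c := ([.e, .d, .h, .i, .e, .f, .c, .d, .e, .b, .c, .d,
      .h, .g, .f, .e, .d, .c, .b], .a)) (Nat.eq_of_beq_eq_true (by decide +kernel)) (by decide +kernel)) na7 ?_ h6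
    exact nyc (c := ([.d, .e, .b, .c, .d, .h, .i, .f, .c, .d, .e, .b, .c, .d, .h, .g, .f, .e, .d, .c, .b], .a))
      (q := 1469) (by norm_num) (Nat.eq_of_beq_eq_true (by decide +kernel)) (by decide +kernel) (by decide +kernel)

end Cfsg.Agent.H835.NormCard
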